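import Groth.Agent.Lib.CohDelta.Flasque
import Groth.Agent.Lib.DerivedOX.GenStalk

/-! `Hom(F, I)` is flasque for injective `I`. -/

universe u

open CategoryTheory CategoryTheory.Limits AlgebraicGeometry TopologicalSpace Opposite

namespace Groth.Agent.Lib.HomFlasque

open DerivedOX DerivedOX.FlatGen DerivedOX.GenStalk DerivedOX.TensorStalk DerivedOX.TensorSheaf CohDelta.Flasque

variable {X : Scheme.{u}}

theorem stalk_genMap_gen {U V : X.Opens} (h : V ≤ U) {x : X} (hx : x ∈ V) :
    Modules.StalkModule.stalkMapₗ (genMap h) x (genGerm hx) = genGerm (h hx) := by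
  refine (shStalkEquiv_natural x _ _).trans (congrArg (shStalkEquiv x (preGen U)) ?_)
  refine (stMap_germ _ hx _).trans (Eq.trans ?_ (germ_res h hx (preSec U)))
  refine congrArg (germ hx) ?_
  rw [res_preSec]
  simp [preSec, PresheafOfModules.free, PresheafOfModules.freeObj]
  erw [ModuleCat.free_map_apply]
  exact congrArg ModuleCat.freeMk (Subsingleton.elim (α := V ⟶ U) _ _)

theorem mono_tensor_genMap (F : X.Modules) {U V : X.Opens} (h : V ≤ U) :
    Mono ((DCoh.tensorBi.obj F).map (genMap h)) := by
  rw [Modules.Stalk.mono_iff_stalk_injective]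
  intro x a b hab
  let g := Modules.StalkModule.stalkMapₗ (genMap h) x
  have key : ∀ z, tensorStalk x F (gen U) (Modules.StalkModule.stalkMapₗ ((DCoh.tensorBi.obj F).map (genMap h)) x z) =
      TensorProduct.map LinearMap.id g (tensorStalk x F (gen V) z) := by
    intro z
    have := tensorStalk_natural x (𝟙 F) (genMap h) z
    rw [CategoryTheory.Functor.map_id, NatTrans.id_app, Category.id_comp,
      Modules.StalkModule.stalkMapₗ_id] at this
    exact this
  apply (tensorStalk x F (gen V)).injective
  by_cases hx : x ∈ V
  · have hg : Function.Bijective g := by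
      have e : ⇑g ∘ (fun c : TensorStalk.Ox x => c • genGerm hx) = fun c => c • genGerm (h hx) := funext fun c => by
        show g (c • genGerm hx) = _
        rw [map_smul, stalk_genMap_gen h hx]
      have hb := bijective_smul_genGerm (h hx)
      rw [← e] at hb
      exact (Function.Bijective.of_comp_iff _ (bijective_smul_genGerm hx)).mp hb
    refine (TensorProduct.congr (LinearEquiv.refl _ _) (LinearEquiv.ofBijective g hg)).injective ?_
    exact (key a).symm.trans ((congrArg _ hab).trans (key b))
  · have := subsingleton_stalk_gen hx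
    exact Subsingleton.elim _ _

theorem surjective_res_of_factor (H : X.Modules) {U V : X.Opens} (h : V ≤ U)
    (hfac : ∀ e : gen V ⟶ H, ∃ t : gen U ⟶ H, genMap h ≫ t = e) :
    Function.Surjective (H.presheaf.map (homOfLE h).op) := by
  intro s
  obtain ⟨t, ht⟩ := hfac ((genHomEquiv V H).symm s)
  refine ⟨genHomEquiv U H t, ?_⟩
  have : genHomEquiv V H (genMap h ≫ t) =
      (DCoh.toP.obj H).map (homOfLE h).op (genHomEquiv U H t) := by
    have key : ∀ (M : CohB1.PMod X) (m : (PresheafOfModules.free _).obj (yoneda.obj U) ⟶ M),
        PresheafOfModules.freeYonedaEquiv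
          ((PresheafOfModules.free _).map (yoneda.map (homOfLE h)) ≫ m) =
        M.map (homOfLE h).op (PresheafOfModules.freeYonedaEquiv m) := by
      intro M m
      change m.app (op V) _ = M.map (homOfLE h).op (m.app (op U) _)
      refine Eq.trans ?_ (PresheafOfModules.naturality_apply m (homOfLE h).op _)
      congr 1
      simp [PresheafOfModules.free, PresheafOfModules.freeObj]
      erw [ModuleCat.freeDesc_apply, ModuleCat.free_map_apply]
      exact congrArg ModuleCat.freeMk (Subsingleton.elim (α := V ⟶ U) _ _)
    refine Eq.trans ?_ (key _ (((TensorMod.Basic.adj X).homEquiv _ H) t))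
    exact congrArg PresheafOfModules.freeYonedaEquiv
      ((TensorMod.Basic.adj X).homEquiv_naturality_left _ t)
  rw [ht] at this
  exact (((genHomEquiv V H).apply_symm_apply s).symm.trans this).symm

theorem surjective_res_sheafHom (F I : X.Modules) [DCoh.HasSheafHom F] [Injective I] {U V : X.Opens} (h : V ≤ U) :
    Function.Surjective (((DCoh.sheafHom F).obj I).presheaf.map (homOfLE h).op) := by
  refine surjective_res_of_factor _ h fun e => ?_
  let adj := DCoh.sheafHomAdj F
  have := mono_tensor_genMap F h
  refine ⟨adj.homEquiv _ _ (Injective.factorThru ((adj.homEquiv _ _).symm e) ((DCoh.tensorBi.obj F).map (genMap h))), ?_⟩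
  rw [← adj.homEquiv_naturality_left, Injective.comp_factorThru, Equiv.apply_symm_apply]

end Groth.Agent.Lib.HomFlasque
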